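import Cfsg.Agent.Mathieu.SmallOrders

/-!
Certificates bounding the second cohomology of M23 with values in a module of dimension 11 over the field
with two elements: symbolic collection in a polycyclic presentation of a Sylow 2-subgroup, with stable
element conditions for further permutations. A symbolic value is a list of 11 masks; bit `11 * k + c`
of a mask stands for coordinate `c` of the value of relation `k`.
-/

set_option autoImplicit false

namespace CfsgLib.M23Cohom

open CfsgLib.Mathieu

/-- An equation: an overlap of collection, or two words with the same conjugate under a generator. -/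
inductive Spec where
  | assoc (a b c : ℕ)
  | conj (g : ℕ) (l l' : List ℕ)

/-- A certificate. -/
structure Cert where
  /-- Tables of the permutations. -/
  gens : List ℕ
  /-- Relations; the first 28 present the Sylow 2-subgroup. -/
  rels : List (List ℕ × List ℕ)
  /-- The matrices, by columns. -/
  mats : List (List ℕ)
  /-- The equations used. -/
  specs : List Spec
  /-- The change of lifts. -/
  shift : List (List ℕ)
  /-- The only possible class. -/
  cls : List ℕ
  /-- Its coordinate. -/
  coord : ℕ
  /-- For each coordinate of a relation, the equations giving it. -/
  combs : List ℕ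

/-- The identity matrix. -/
def idMat : List ℕ := (List.range 11).map (2 ^ ·)

/-- Sum of two symbolic values. -/
def addSym (a b : List ℕ) : List ℕ := (List.range 11).map fun c => a.getD c 0 ^^^ b.getD c 0

/-- One coordinate of a matrix applied to a symbolic value. -/
def dotAt (k : ℕ) : ℕ → List ℕ → List ℕ → ℕ
  | 0, _, _ => 0
  | n + 1, c, v => (if (c.headD 0).testBit k then v.headD 0 else 0) ^^^ dotAt k n c.tail v.tail

/-- A matrix applied to a symbolic value. -/
def matSym (c v : List ℕ) : List ℕ := (List.range 11).map fun k => dotAt k 11 c v

/-- The value of a relation. -/
def symVar (k : ℕ) : List ℕ := (List.range 11).map fun c => 2 ^ (11 * k + c)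

/-- The first place where two neighbours are not increasing. -/
def firstPair : List ℕ → Option (List ℕ × ℕ × ℕ × List ℕ)
  | a :: b :: t =>
    if b ≤ a then some ([], a, b, t)
    else (firstPair (b :: t)).map fun r => (a :: r.1, r.2)
  | _ => none

/-- Look up a relation. -/
def findRel : List (List ℕ × List ℕ) → List ℕ → ℕ → Option (ℕ × List ℕ)
  | [], _, _ => none
  | (l, r) :: t, w, k => if l == w then some (k, r) else findRel t w (k + 1)

/-- The table entries of a word. -/
def appWord (gens : List ℕ) : List ℕ → ℕ → ℕ
  | [], p => p
  | j :: w, p => app (gens.getD j 0) (appWord gens w p)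

namespace Cert

variable (C : Cert)

/-- The matrix of a generator. -/
def mat (j : ℕ) : List ℕ := C.mats.getD j idMat

/-- The matrix of a word applied to a symbolic value. -/
def actWord : List ℕ → List ℕ → List ℕ
  | [], v => v
  | j :: w, v => matSym (C.mat j) (actWord w v)

/-- Collection. -/
def collect : ℕ → List ℕ → Option (List ℕ × List ℕ)
  | 0, _ => none
  | n + 1, w =>
    match firstPair w with
    | none => some ([], w)
    | some (pre, a, b, post) =>
      match findRel (C.rels.take 28) [a, b] 0 with
      | none => none
      | some (k, r) =>
        (collect n (pre ++ r ++ post)).map fun x => (addSym (C.actWord pre (symVar k)) x.1, x.2)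

/-- Bound on the number of collection steps. -/
def fuel : ℕ := 1000

/-- A word moved across a further generator. -/
def across (g : ℕ) : List ℕ → Option (List ℕ × List ℕ × List ℕ)
  | [] => some ([], [], [])
  | t :: l =>
    match across g l, C.rels[28 + t]? with
    | some x, some (g' :: w, r) =>
      if g' == g && r == r.dropLast ++ [g] then
        some (addSym (symVar (28 + t)) (C.actWord r.dropLast x.1), w ++ x.2.1, r.dropLast ++ x.2.2)
      else none
    | _, _ => none

/-- A word moved across a further generator, both sides collected. -/
def acrossNF (g : ℕ) (l : List ℕ) : Option (List ℕ × List ℕ × List ℕ) :=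
  match C.across g l with
  | none => none
  | some x =>
    match C.collect fuel x.2.1, C.collect fuel x.2.2 with
    | some y, some z => some (addSym (matSym (C.mat g) y.1) (addSym x.1 z.1), y.2, z.2)
    | _, _ => none

/-- The equations of a specification. -/
def specVal : Spec → List ℕ
  | .assoc a b c =>
    match C.collect fuel [a, b, c], findRel (C.rels.take 28) [b, c] 0 with
    | some x, some (k, r) =>
      match C.collect fuel (a :: r) with
      | some y =>
        if x.2 == y.2 then addSym x.1 (addSym y.1 (matSym (C.mat a) (symVar k))) else []
      | none => []
    | _, _ => []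
  | .conj g l l' =>
    match C.acrossNF g l, C.acrossNF g l' with
    | some x, some y => if x.2.1 == y.2.1 && x.2.2 == y.2.2 then addSym x.1 y.1 else []
    | _, _ => []

/-- All equations. -/
def eqs : List ℕ := C.specs.flatMap C.specVal

/-- The change of the value of a word. -/
def dv : List ℕ → List ℕ
  | [] => []
  | j :: w => addSym (C.shift.getD j []) (matSym (C.mat j) (dv w))

/-- The value of a relation after the change of lifts. -/
def newX (k : ℕ) : List ℕ :=
  addSym (symVar k) (addSym (C.dv (C.rels.getD k ([], [])).1) (C.dv (C.rels.getD k ([], [])).2))

/-- Each relation is a multiple of the class modulo the equations. -/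
def combOK : Bool :=
  let es := C.eqs
  allBelow 28 fun k =>
    let nx := C.newX k
    allBelow 11 fun c =>
      (nx.getD c 0 ^^^ (if (C.cls.getD k 0).testBit c then C.coord else 0)) ==
        xorSel es (C.combs.getD (11 * k + c) 0)

/-- The tables are permutations in M23 and satisfy the relations. -/
def tablesOK : Bool :=
  ((28 ≤ C.rels.length) && (7 ≤ C.gens.length)) && (C.mats.length == C.gens.length) &&
  C.gens.all (fun t => tableValid t && preservesCode t && (app t 23 == 23)) &&
  C.rels.all fun r => (r.1.all (Nat.blt · C.gens.length)) && (r.2.all (Nat.blt · C.gens.length)) &&
    allBelow 24 fun p => appWord C.gens r.1 p == appWord C.gens r.2 p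

/-- The normal forms give a subgroup of order 128 on the points and are closed under collection. -/
def formsOK (F : List (List ℕ)) : Bool :=
  F.contains [] && (F.length == 128) &&
  decide (F.map fun w => (List.range 24).map (appWord C.gens w)).Nodup &&
  F.all fun w => (w.all (Nat.blt · 7)) &&
    allBelow 7 fun j =>
      match C.collect fuel (w ++ [j]) with
      | some x => F.contains x.2
      | none => false

end Cert

end CfsgLib.M23Cohom
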