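import Cfsg.Agent.M23Cohom.CertData

/-!
The certificates check.
-/

set_option autoImplicit false

namespace CfsgLib.M23Cohom

open CfsgLib.Mathieu

theorem codeCert_tables : codeCert.tablesOK = true := by decide +kernel

theorem cocodeCert_tables : cocodeCert.tablesOK = true := by decide +kernel

theorem codeCert_forms : codeCert.formsOK normalForms = true := by decide +kernel

theorem cocodeCert_forms : cocodeCert.formsOK normalForms = true := by decide +kernel

theorem codeCert_comb : codeCert.combOK = true := by decide +kernel

theorem cocodeCert_comb : cocodeCert.combOK = true := by decide +kernel

theorem codeCert_coord : codeCert.coord = 0 := rfl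

end CfsgLib.M23Cohom
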