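import Cfsg.Agent.M23Cohom.Split

/-!
Two extensions with the same action whose classes have the same coordinate are isomorphic: their difference
extension splits, and a complement is the graph of an isomorphism.
-/

set_option autoImplicit false

namespace CfsgLib.M23Cohom

open CfsgLib.Mathieu Cfsg

namespace Ext

variable {C : Cert} {G G' : Type*} [Group G] [Group G'] (M : Ext C G) (M' : Ext C G')

/-- Pairs with the same image. -/
def fibre : Subgroup (G × G') :=
  MonoidHom.eqLocus (M.proj.comp (MonoidHom.fst G G')) (M'.proj.comp (MonoidHom.snd G G'))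

theorem mem_fibre (p : G × G') : p ∈ M.fibre M' ↔ M.proj p.1 = M'.proj p.2 := Iff.rfl

/-- The two copies of the module identified. -/
def diag : Subgroup (M.fibre M') where
  carrier := {p | ∃ v, p.1.1 = M.incl v ∧ p.1.2 = M'.incl v}
  one_mem' := ⟨0, M.emb.map_zero.symm, M'.emb.map_zero.symm⟩
  mul_mem' := by
    rintro p q ⟨u, hu, hu'⟩ ⟨v, hv, hv'⟩
    exact ⟨u + v, by simp [hu, hv, M.emb.add], by simp [hu', hv', M'.emb.add]⟩
  inv_mem' := by
    rintro p ⟨u, hu, hu'⟩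
    refine ⟨u, ?_, ?_⟩
    · show (p.1.1)⁻¹ = _
      rw [hu, inv_eq_iff_mul_eq_one, ← M.emb.add, two_inv, M.emb.map_zero]
    · show (p.1.2)⁻¹ = _
      rw [hu', inv_eq_iff_mul_eq_one, ← M'.emb.add, two_inv, M'.emb.map_zero]

/-- Extensions with a common action and equal coordinates are isomorphic. -/
theorem nonempty_mulEquiv [Finite G] [Finite G'] (ρ : Spor.M23 → Vec → Vec)
    (hρ : ∀ g v, g * M.incl v * g⁻¹ = M.incl (ρ (M.proj g) v))
    (hρ' : ∀ g v, g * M'.incl v * g⁻¹ = M'.incl (ρ (M'.proj g) v))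
    (hC : C.tablesOK = true) {F : List (List ℕ)} (hF : C.formsOK F = true) (hcomb : C.combOK = true)
    {a : ℕ → G} {a' : ℕ → G'} (ha : M.IsLift a) (ha' : M'.IsLift a') {x x' : ℕ → ZMod 2}
    (hH : Holds C M.incl a C.rels.length x) (hH' : Holds C M'.incl a' C.rels.length x')
    (heq : ev (11 * C.rels.length) x C.coord = ev (11 * C.rels.length) x' C.coord) :
    Nonempty (G ≃* G') := by
  classical
  haveI hnorm : (M.diag M').Normal := ⟨by
    rintro n ⟨v, hv, hv'⟩ p
    refine ⟨ρ (M.proj p.1.1) v, ?_, ?_⟩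
    · show p.1.1 * n.1.1 * p.1.1⁻¹ = _
      rw [hv, hρ]
    · show p.1.2 * n.1.2 * p.1.2⁻¹ = _
      rw [hv', hρ', ← (M.mem_fibre M' p.1).1 p.2]⟩
  let q : ↥(M.fibre M') →* ↥(M.fibre M') ⧸ M.diag M' := QuotientGroup.mk' _
  have hq : ∀ p r : ↥(M.fibre M'), q p = q r ↔ ∃ v, (p⁻¹ * r).1.1 = M.incl v ∧ (p⁻¹ * r).1.2 = M'.incl v :=
    fun p r => QuotientGroup.eq
  let left : Vec → ↥(M.fibre M') := fun v =>
    ⟨(M.incl v, 1), by rw [mem_fibre, (M.mem_ker _).2 ⟨v, rfl⟩, map_one]⟩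
  have hleft : ∀ u v, left (u + v) = left u * left v := fun u v =>
    Subtype.ext (Prod.ext (M.emb.add u v) (one_mul 1).symm)
  have hkill : M.diag M' ≤ ((M.proj.comp (MonoidHom.fst G G')).comp (M.fibre M').subtype).ker := by
    rintro p ⟨v, hv, -⟩
    show M.proj p.1.1 = 1
    rw [hv]; exact (M.mem_ker _).2 ⟨v, rfl⟩
  let π : ↥(M.fibre M') ⧸ M.diag M' →* Spor.M23 := QuotientGroup.lift _ _ hkill
  have hπq : ∀ p, π (q p) = M.proj p.1.1 := fun p => rfl
  have hsame : ∀ u u', ∀ h, q ⟨(M.incl u, M'.incl u'), h⟩ = q (left (u + u')) := by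
    intro u u' h
    refine (hq _ _).2 ⟨u', ?_, ?_⟩
    · show (M.incl u)⁻¹ * M.incl (u + u') = _
      rw [M.emb.add, inv_mul_cancel_left]
    · show (M'.incl u')⁻¹ * 1 = _
      rw [mul_one, inv_eq_iff_mul_eq_one, ← M'.emb.add, two_inv, M'.emb.map_zero]
  let D : Ext C (↥(M.fibre M') ⧸ M.diag M') :=
    { proj := π
      incl := fun v => q (left v)
      emb := by
        refine ⟨fun u v => by rw [hleft, map_mul], fun u v huv => ?_⟩
        obtain ⟨w, hw, hw'⟩ := (hq _ _).1 huv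
        have hw0 : w = 0 := M'.emb.inj (by rw [← hw', M'.emb.map_zero]; show (1 : G')⁻¹ * 1 = 1; group)
        refine M.emb.inj (inv_mul_eq_one.1 ?_)
        rw [← M.emb.map_zero, ← hw0]; exact hw
      mem_ker := by
        intro d
        obtain ⟨⟨⟨e, e'⟩, he⟩, rfl⟩ := QuotientGroup.mk'_surjective (M.diag M') d
        refine ⟨fun h => ?_, fun ⟨v, hv⟩ => hv ▸ (hπq (left v)).trans ((M.mem_ker _).2 ⟨v, rfl⟩)⟩
        have h1 : M.proj e = 1 := h
        obtain ⟨u, rfl⟩ := (M.mem_ker _).1 h1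
        obtain ⟨u', rfl⟩ := (M'.mem_ker _).1 ((((M.mem_fibre M' _).1 he).symm.trans h1))
        exact ⟨u + u', (hsame u u' he).symm⟩
      surj := by
        intro σ
        obtain ⟨e, he⟩ := M.surj σ
        obtain ⟨e', he'⟩ := M'.surj σ
        exact ⟨q ⟨(e, e'), he.trans he'.symm⟩, he⟩
      conj := by
        intro d j hj hrep v
        obtain ⟨p, rfl⟩ := QuotientGroup.mk'_surjective (M.diag M') d
        show q p * q (left v) * (q p)⁻¹ = q (left _)
        rw [← map_inv, ← map_mul, ← map_mul]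
        refine congrArg q (Subtype.ext (Prod.ext ?_ ?_))
        · exact M.conj p.1.1 j hj hrep v
        · show p.1.2 * 1 * p.1.2⁻¹ = 1
          group }
  have hmem : ∀ j, (a j, a' j) ∈ M.fibre M' := by
    intro j
    rw [mem_fibre]
    by_cases hj : j < C.gens.length
    · refine Subtype.ext (Equiv.ext fun p => idx_injective ?_)
      exact (((ha j).1 hj p).symm.trans ((ha' j).1 hj p))
    · rw [(ha j).2 (by omega), (ha' j).2 (by omega), map_one, map_one]
  have hd : D.IsLift fun j => q ⟨(a j, a' j), hmem j⟩ := by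
    intro j
    refine ⟨fun hj => (ha j).1 hj, fun hj => ?_⟩
    show q _ = 1
    rw [show (⟨(a j, a' j), hmem j⟩ : ↥(M.fibre M')) = 1 from
      Subtype.ext (Prod.ext ((ha j).2 hj) ((ha' j).2 hj)), map_one]
  have hwmem : ∀ w : List ℕ, (word a w, word a' w) ∈ M.fibre M' := by
    intro w
    induction w with
    | nil => exact one_mem _
    | cons j w ih => exact mul_mem (hmem j) ih
  have hword : ∀ w : List ℕ, word (fun j => q ⟨(a j, a' j), hmem j⟩) w = q ⟨(word a w, word a' w), hwmem w⟩ := by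
    intro w
    induction w with
    | nil => exact (map_one q).symm
    | cons j w ih => rw [word_cons, ih, ← map_mul]; rfl
  have hDH : Holds C D.incl (fun j => q ⟨(a j, a' j), hmem j⟩) C.rels.length (x + x') := by
    intro k l r hk hkr
    set u : Vec := fun c => x (11 * k + c.val) with hu
    set u' : Vec := fun c => x' (11 * k + c.val) with hu'
    rw [hword, hword, show (fun c : Fin 11 => (x + x') (11 * k + c.val)) = u + u' from rfl]
    have hf : (M.incl u, M'.incl u') ∈ M.fibre M' := by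
      rw [mem_fibre, (M.mem_ker _).2 ⟨u, rfl⟩, (M'.mem_ker _).2 ⟨u', rfl⟩]
    show _ = q (left (u + u')) * _
    rw [← hsame u u' hf, ← map_mul]
    exact congrArg q (Subtype.ext (Prod.ext (hH k l r hk hkr) (hH' k l r hk hkr)))
  obtain ⟨H, hinf, hsup⟩ := hd.split hC hF hcomb hDH
    (by rw [ev_add_vars, heq, CharTwo.add_self_eq_zero])
  let R : Subgroup (G × G') := (H.comap q).map (M.fibre M').subtype
  have hR : ∀ p : G × G', p ∈ R ↔ ∃ h : p ∈ M.fibre M', q ⟨p, h⟩ ∈ H := by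
    intro p
    constructor
    · rintro ⟨y, hy, rfl⟩; exact ⟨y.2, hy⟩
    · rintro ⟨h, hy⟩; exact ⟨⟨p, h⟩, hy, rfl⟩
  have hcover : ∀ σ : Spor.M23, ∃ p ∈ R, M.proj p.1 = σ ∧ M'.proj p.2 = σ := by
    intro σ
    obtain ⟨d, hd'⟩ := D.surj σ
    have hdmem : d ∈ H ⊔ D.proj.ker := hsup ▸ Subgroup.mem_top d
    obtain ⟨h, hh, n, hn, rfl⟩ := Subgroup.mem_sup_of_normal_right.1 hdmem
    obtain ⟨p, rfl⟩ := QuotientGroup.mk'_surjective (M.diag M') h
    rw [map_mul, MonoidHom.mem_ker.1 hn, mul_one] at hd'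
    exact ⟨p.1, (hR _).2 ⟨p.2, hh⟩, hd', ((M.mem_fibre M' _).1 p.2).symm.trans hd'⟩
  have hdiag : ∀ v, (M.incl v, M'.incl v) ∈ R := by
    intro v
    refine (hR _).2 ⟨by rw [mem_fibre, (M.mem_ker _).2 ⟨v, rfl⟩, (M'.mem_ker _).2 ⟨v, rfl⟩], ?_⟩
    rw [hsame, two_inv, show left 0 = 1 from Subtype.ext (Prod.ext M.emb.map_zero rfl), map_one]
    exact one_mem _
  have hzero : ∀ u u', (M.incl u, M'.incl u') ∈ R → u + u' = 0 := by
    intro u u' hmemR
    obtain ⟨hf, hy⟩ := (hR _).1 hmemR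
    rw [hsame u u' hf] at hy
    have hb : q (left (u + u')) ∈ H ⊓ D.proj.ker :=
      ⟨hy, MonoidHom.mem_ker.2 ((D.mem_ker _).2 ⟨_, rfl⟩)⟩
    rw [hinf, Subgroup.mem_bot] at hb
    exact D.emb.inj (hb.trans D.emb.map_zero.symm)
  have bij₁ : Function.Bijective ((MonoidHom.fst G G').comp R.subtype) := by
    refine ⟨(injective_iff_map_eq_one _).2 fun p hp => ?_, fun e => ?_⟩
    · obtain ⟨⟨e, e'⟩, hpR⟩ := p
      obtain rfl : e = 1 := hp
      obtain ⟨u', hu'⟩ := (M'.mem_ker e').1 (((M.mem_fibre M' _).1 ((hR _).1 hpR).1).symm.trans (map_one _))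
      have := hzero 0 u' (by rw [M.emb.map_zero, hu']; exact hpR)
      rw [zero_add] at this
      subst this
      exact Subtype.ext (Prod.ext rfl (hu'.symm.trans M'.emb.map_zero))
    · obtain ⟨p, hp, hp1, -⟩ := hcover (M.proj e)
      obtain ⟨v, hv⟩ := (M.mem_ker (p.1⁻¹ * e)).1 (by rw [map_mul, map_inv, hp1, inv_mul_cancel])
      exact ⟨⟨_, mul_mem hp (hdiag v)⟩, by show p.1 * M.incl v = e; rw [hv, mul_inv_cancel_left]⟩
  have bij₂ : Function.Bijective ((MonoidHom.snd G G').comp R.subtype) := by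
    refine ⟨(injective_iff_map_eq_one _).2 fun p hp => ?_, fun e => ?_⟩
    · obtain ⟨⟨e, e'⟩, hpR⟩ := p
      obtain rfl : e' = 1 := hp
      obtain ⟨u, hu⟩ := (M.mem_ker e).1 (((M.mem_fibre M' _).1 ((hR _).1 hpR).1).trans (map_one _))
      have := hzero u 0 (by rw [M'.emb.map_zero, hu]; exact hpR)
      rw [add_zero] at this
      subst this
      exact Subtype.ext (Prod.ext (hu.symm.trans M.emb.map_zero) rfl)
    · obtain ⟨p, hp, -, hp2⟩ := hcover (M'.proj e)
      obtain ⟨v, hv⟩ := (M'.mem_ker (p.2⁻¹ * e)).1 (by rw [map_mul, map_inv, hp2, inv_mul_cancel])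
      exact ⟨⟨_, mul_mem hp (hdiag v)⟩, by show p.2 * M'.incl v = e; rw [hv, mul_inv_cancel_left]⟩
  exact ⟨(MulEquiv.ofBijective _ bij₁).symm.trans (MulEquiv.ofBijective _ bij₂)⟩

end Ext

end CfsgLib.M23Cohom
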