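import Cfsg.Agent.M23Cohom.Split
import Cfsg.Agent.M23Ext.Extension

/-!
The code and the cocode, in the coordinates of the shortened code, as modules for the certificates.
-/

set_option autoImplicit false

namespace CfsgLib.M23Cohom

open CfsgLib.Mathieu Cfsg CfsgLib.M23Ext

/-- The matrices are those of the permutations on the shortened code. -/
def codeMatsOK (C : Cert) : Bool :=
  allBelow C.gens.length fun g => allBelow 11 fun i =>
    push (C.gens.getD g 0) 24 (shortRows.getD i 0) == xorSel shortRows ((C.mat g).getD i 0)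

/-- The matrices are those of the permutations on the cocode. -/
def cocodeMatsOK (C : Cert) : Bool :=
  allBelow C.gens.length fun g => allBelow 11 fun i => allBelow 11 fun j =>
    (shortRows.getD j 0).testBit (app (C.gens.getD g 0) i) == ((C.mat g).getD i 0).testBit j

theorem codeCert_mats : codeMatsOK codeCert = true := by decide +kernel

theorem cocodeCert_mats : cocodeMatsOK cocodeCert = true := by decide +kernel

theorem wordOf_comp_inv {σ : Equiv.Perm GolayPt} {t : ℕ} (h : Rep enc σ t) (M : ℕ) :
    wordOf M ∘ ⇑σ⁻¹ = wordOf (push t 24 M) := by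
  refine support₂_injective ?_
  rw [support₂_wordOf, ← image_setOf24 h]
  ext p
  simp only [support₂, Finset.mem_filter, Finset.mem_univ, true_and, Function.comp_apply, Finset.mem_image]
  constructor
  · intro hne
    refine ⟨σ⁻¹ p, ?_, by simp⟩
    rw [← support₂_wordOf]
    simpa [support₂] using hne
  · rintro ⟨y, hy, rfl⟩
    rw [← support₂_wordOf] at hy
    simpa [support₂] using hy

theorem coe_row_word {j : ℕ} (hj : j < 11) : (row j : Word) = wordOf (shortRows.getD j 0) := by
  show wordOf (shortMask (2 ^ j)) = _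
  rw [shortMask_row j hj]

/-- The code word with given coordinates. -/
def codeWord : Vec →+ Word where
  toFun v := ∑ j : Fin 11, v j • (row j.val : Word)
  map_zero' := by simp
  map_add' u v := by simp [add_smul, Finset.sum_add_distrib]

theorem codeWord_apply (v : Vec) {i : ℕ} (hi : i < 11) : codeWord v (pt i) = v ⟨i, hi⟩ := by
  show (∑ j : Fin 11, v j • (row j.val : Word)) (pt i) = _
  rw [Finset.sum_apply, Finset.sum_eq_single ⟨i, hi⟩]
  · rw [Pi.smul_apply, show (row i : Word) (pt i) = coe i (row i) from rfl, coe_row hi hi]; simp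
  · intro j _ hj
    rw [Pi.smul_apply, show (row j.val : Word) (pt i) = coe i (row j.val) from rfl, coe_row hi j.isLt,
      if_neg (fun h => hj (Fin.ext h.symm)), smul_zero]
  · simp

theorem codeWord_injective : Function.Injective codeWord := fun u v h => by
  funext j
  rw [← codeWord_apply u j.isLt, h, codeWord_apply v j.isLt]

theorem codeWord_mem (v : Vec) : codeWord v ∈ short :=
  Submodule.sum_mem short (t := Finset.univ) (f := fun j : Fin 11 => v j • (row j.val : Word))
    fun j _ => Submodule.smul_mem _ _ (row j.val).2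

theorem exists_codeWord {w : Word} (hw : w ∈ short) : ∃ v, codeWord v = w := by
  refine ⟨fun j : Fin 11 => coe j.val ⟨w, hw⟩, ?_⟩
  conv_rhs => rw [show w = ((⟨w, hw⟩ : short) : Word) from rfl, decompose ⟨w, hw⟩,
    AddSubmonoidClass.coe_finsetSum]
  show ∑ j : Fin 11, coe j.val ⟨w, hw⟩ • (row j.val : Word) = _
  rw [Fin.sum_univ_eq_sum_range (fun j => coe j ⟨w, hw⟩ • (row j : Word)) 11]
  rfl

theorem codeWord_matVec (c : List ℕ) (v : Vec) :
    codeWord (matVec c v) = ∑ i : Fin 11, v i • wordOf (xorSel shortRows (c.getD i.val 0)) := by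
  show ∑ k : Fin 11, matVec c v k • (row k.val : Word) = _
  simp only [matVec, Finset.sum_smul]
  rw [Finset.sum_comm]
  refine Finset.sum_congr rfl fun i _ => ?_
  rw [wordOf_xorSel, shortRows_length, ← Fin.sum_univ_eq_sum_range, Finset.smul_sum]
  refine Finset.sum_congr rfl fun k _ => ?_
  rw [coe_row_word k.isLt]
  split_ifs <;> simp

section
variable {G : Type*} [Group G] (N : Subgroup G) [hN : N.Normal] (φ : G ⧸ N ≃* Spor.M23)

/-- The projection. -/
def projOf : G →* Spor.M23 := φ.toMonoidHom.comp (QuotientGroup.mk' N)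

theorem projOf_surjective : Function.Surjective (projOf N φ) :=
  φ.surjective.comp (QuotientGroup.mk'_surjective N)

theorem projOf_eq_one (g : G) : projOf N φ g = 1 ↔ g ∈ N := by
  rw [projOf, MonoidHom.comp_apply]
  exact (MulEquiv.map_eq_one_iff φ).trans (QuotientGroup.eq_one_iff g)

theorem ker_projOf : (projOf N φ).ker = N := Subgroup.ext fun g => (MonoidHom.mem_ker).trans (projOf_eq_one N φ g)

/-- An extension by the code, as an extension by coordinates. -/
theorem exists_codeExt (C : Cert) (hC : codeMatsOK C = true) (ψ : Additive ↥N →+ Word)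
    (hinj : Function.Injective ψ) (hrange : ∀ w : Word, w ∈ Set.range ψ ↔ (w ∈ golayCode ∧ w none = 0))
    (hψ : ∀ (g : G) (n : ↥N), ψ (Additive.ofMul ⟨g * n * g⁻¹, hN.conj_mem n n.2 g⟩) =
      ψ (Additive.ofMul n) ∘ ⇑(((φ (QuotientGroup.mk g) : ↥Spor.M23) : Equiv.Perm GolayPt)⁻¹)) :
    ∃ M : Ext C G, M.proj.ker = N := by
  have h : ∀ v : Vec, ∃ n : Additive ↥N, ψ n = codeWord v := fun v =>
    (hrange _).2 (codeWord_mem v)
  choose f hf using h
  have hfadd : ∀ u v, f (u + v) = f u + f v := fun u v => hinj (by rw [map_add, hf, hf, hf, map_add])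
  refine ⟨{
    proj := projOf N φ
    incl := fun v => ((f v).toMul : G)
    emb := ⟨fun u v => by rw [hfadd]; rfl, fun u v huv => ?_⟩
    mem_ker := fun g => ?_
    surj := projOf_surjective N φ
    conj := fun g j hj hrep v => ?_ }, ker_projOf N φ⟩
  · have : f u = f v := Additive.toMul.injective (Subtype.ext huv)
    exact codeWord_injective (by rw [← hf, this, hf])
  · rw [projOf_eq_one]
    refine ⟨fun hg => ?_, fun ⟨v, hv⟩ => hv ▸ (f v).toMul.2⟩
    have hmem : ψ (Additive.ofMul ⟨g, hg⟩) ∈ short := (hrange _).1 ⟨_, rfl⟩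
    obtain ⟨v, hv⟩ := exists_codeWord hmem
    exact ⟨v, by rw [hinj ((hf v).trans hv)]; rfl⟩
  · have key : f (matVec (C.mat j) v) =
        Additive.ofMul (⟨g * (f v).toMul * g⁻¹, hN.conj_mem _ (f v).toMul.2 g⟩ : ↥N) := by
      refine hinj ?_
      rw [hf, hψ, ofMul_toMul, hf, codeWord_matVec]
      funext p
      show _ = codeWord v ((((φ (QuotientGroup.mk g) : ↥Spor.M23) : Equiv.Perm GolayPt)⁻¹) p)
      rw [codeWord, AddMonoidHom.coe_mk, ZeroHom.coe_mk, Finset.sum_apply, Finset.sum_apply]
      refine Finset.sum_congr rfl fun i _ => ?_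
      have hchk := beq_iff_eq.1 (allBelow_iff.1 (allBelow_iff.1 hC j hj) i.val i.isLt)
      rw [← hchk, ← wordOf_comp_inv hrep, Pi.smul_apply, Pi.smul_apply, coe_row_word i.isLt]
      rfl
    show g * ((f v).toMul : G) * g⁻¹ = ((f _).toMul : G)
    rw [key]; rfl

/-- The cocode word with given coordinates. -/
def cocodeWord : Vec →+ Word where
  toFun v := ∑ j : Fin 11, v j • (Pi.single (pt j.val) 1 : Word)
  map_zero' := by simp
  map_add' u v := by simp [add_smul, Finset.sum_add_distrib]

theorem pairing_add_left (u w : Word) (v : short) : pairing (u + w) v = pairing u v + pairing w v := by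
  simp only [pairing, Pi.add_apply, add_mul, Finset.sum_add_distrib]

theorem pairing_single (p : GolayPt) (v : short) : pairing (Pi.single p 1) v = (v : Word) p := by
  rw [pairing, Finset.sum_eq_single p] <;> simp +contextual

theorem pairing_cocodeWord (v : Vec) {j : ℕ} (hj : j < 11) : pairing (cocodeWord v) (row j) = v ⟨j, hj⟩ := by
  show pairing (∑ i : Fin 11, v i • (Pi.single (pt i.val) 1 : Word)) (row j) = _
  simp only [pairing, Finset.sum_apply, Pi.smul_apply, Finset.sum_mul]
  rw [Finset.sum_comm, Finset.sum_eq_single ⟨j, hj⟩]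
  · have := pairing_single (pt j) (row j)
    rw [pairing] at this
    simp only [smul_eq_mul, mul_assoc, ← Finset.mul_sum, this,
      show (row j : Word) (pt j) = coe j (row j) from rfl, coe_row hj hj, if_true, mul_one]
  · intro i _ hi
    have := pairing_single (pt i.val) (row j)
    rw [pairing] at this
    simp only [smul_eq_mul, mul_assoc, ← Finset.mul_sum, this,
      show (row j : Word) (pt i.val) = coe i.val (row j) from rfl, coe_row i.isLt hj,
      if_neg (fun h => hi (Fin.ext h)), mul_zero]
  · simp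

theorem pairing_eq_zero_iff (w : Word) :
    (∀ j < 11, pairing w (row j) = 0) ↔ (w ∈ golayCode ∨ w + Pi.single none 1 ∈ golayCode) := by
  rw [← theta_eq_zero_iff, show theta w = 0 ↔ ∀ v : short, pairing w v = 0 from
    (Additive.ofMul.apply_eq_iff_eq (x := thetaFun w) (y := 1)).trans (eq_one_iff _)]
  refine ⟨fun h v => ?_, fun h j _ => h (row j)⟩
  rw [decompose v]
  refine (map_sum (AddMonoidHom.mk' (pairing w) (pairing_add_right w)) _ _).trans ?_
  refine Finset.sum_eq_zero fun j hj => ?_
  show pairing w (coe j v • row j) = 0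
  rcases zmod_cases (coe j v) with e | e <;> rw [e]
  · simp [pairing]
  · rw [one_smul, h j (Finset.mem_range.1 hj)]

/-- The action on coordinates of the cocode. -/
def cocodeAct (σ : Spor.M23) (v : Vec) : Vec :=
  fun j => pairing (cocodeWord v ∘ ⇑((σ : Equiv.Perm GolayPt)⁻¹)) (row j.val)

/-- An extension by the cocode, as an extension by coordinates. -/
theorem exists_cocodeExt (C : Cert) (hC : cocodeMatsOK C = true) (θ : Word →+ Additive ↥N)
    (hsurj : Function.Surjective θ)
    (hker : ∀ w : Word, θ w = 0 ↔ (w ∈ golayCode ∨ w + Pi.single none 1 ∈ golayCode))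
    (hθ : ∀ (g : G) (w : Word),
      ((θ (w ∘ ⇑(((φ (QuotientGroup.mk g) : ↥Spor.M23) : Equiv.Perm GolayPt)⁻¹))).toMul : G) =
        g * ((θ w).toMul : G) * g⁻¹) :
    ∃ M : Ext C G, M.proj.ker = N ∧ ∀ g v, g * M.incl v * g⁻¹ = M.incl (cocodeAct (M.proj g) v) := by
  have heq : ∀ w w', (∀ j < 11, pairing w (row j) = pairing w' (row j)) → θ w = θ w' := fun w w' h => by
    rw [← sub_eq_zero, ← map_sub, hker, ← pairing_eq_zero_iff]
    intro j hj
    have := pairing_add_left (w - w') w' (row j)
    rw [sub_add_cancel, h j hj] at this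
    exact right_eq_add.1 this
  refine ⟨{
    proj := projOf N φ
    incl := fun v => ((θ (cocodeWord v)).toMul : G)
    emb := ⟨fun u v => by rw [map_add, map_add]; rfl, fun u v huv => ?_⟩
    mem_ker := fun g => ?_
    surj := projOf_surjective N φ
    conj := fun g j hj hrep v => ?_ }, ker_projOf N φ, fun g v => ?_⟩
  · have h1 : θ (cocodeWord u) = θ (cocodeWord v) := Additive.toMul.injective (Subtype.ext huv)
    have h2 := (pairing_eq_zero_iff _).2 ((hker (cocodeWord u - cocodeWord v)).1 (by rw [map_sub, h1, sub_self]))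
    funext i
    have := h2 i.val i.isLt
    rw [← map_sub, pairing_cocodeWord _ i.isLt, Pi.sub_apply, sub_eq_zero] at this
    exact this
  · rw [projOf_eq_one]
    refine ⟨fun hg => ?_, fun ⟨v, hv⟩ => hv ▸ (θ (cocodeWord v)).toMul.2⟩
    obtain ⟨w, hw⟩ := hsurj (Additive.ofMul ⟨g, hg⟩)
    refine ⟨fun i => pairing w (row i.val), ?_⟩
    rw [heq _ w (fun i hi => pairing_cocodeWord _ hi), hw]
    rfl
  · show g * ((θ (cocodeWord v)).toMul : G) * g⁻¹ = ((θ (cocodeWord _)).toMul : G)
    rw [← hθ]
    refine congrArg (fun x : Additive ↥N => (x.toMul : G)) (heq _ _ fun k hk => ?_)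
    rw [pairing_cocodeWord _ hk, matVec, pairing]
    simp only [Function.comp_apply]
    set σ := ((φ (QuotientGroup.mk g) : ↥Spor.M23) : Equiv.Perm GolayPt)
    rw [← Equiv.sum_comp σ]
    simp only [perm_inv_apply]
    show ∑ p, (∑ i : Fin 11, v i • (Pi.single (pt i.val) 1 : Word)) p * (row k : Word) (σ p) = _
    simp only [Finset.sum_apply, Pi.smul_apply, Finset.sum_mul]
    rw [Finset.sum_comm]
    refine Finset.sum_congr rfl fun i _ => ?_
    rw [Finset.sum_eq_single (pt i.val)]
    · have hchk := beq_iff_eq.1 (allBelow_iff.1 (allBelow_iff.1 (allBelow_iff.1 hC j hj) i.val i.isLt) k hk)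
      have hr : idx (σ (pt i.val)) = app (C.gens.getD j 0) i.val := by
        conv_rhs => rw [← idx_pt (show i.val < 24 by omega)]
        exact (hrep (pt i.val)).symm
      rw [Pi.single_eq_same, coe_row_word hk, wordOf, hr, hchk]
      split_ifs <;> simp
    · intro p _ hp; simp [hp]
    · simp
  · show g * ((θ (cocodeWord v)).toMul : G) * g⁻¹ = ((θ (cocodeWord _)).toMul : G)
    rw [← hθ]
    exact congrArg (fun x : Additive ↥N => (x.toMul : G))
      (heq _ _ fun k hk => by rw [pairing_cocodeWord _ hk]; rfl)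

end

end CfsgLib.M23Cohom
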