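import Cfsg.Agent.M23Cohom.Cert

/-!
Soundness of symbolic collection: in a group containing an elementary abelian 2-group on which chosen
elements act by the matrices of the certificate and satisfy its relations up to given values.
-/

set_option autoImplicit false

namespace CfsgLib.M23Cohom

open CfsgLib.Mathieu

/-- The module. -/
abbrev Vec : Type := Fin 11 → ZMod 2

/-- Evaluation of a mask at values of the first `N` variables. -/
def ev (N : ℕ) (x : ℕ → ZMod 2) (m : ℕ) : ZMod 2 :=
  ∑ u ∈ Finset.range N, if m.testBit u then x u else 0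

theorem ev_zero (N : ℕ) (x : ℕ → ZMod 2) : ev N x 0 = 0 := by simp [ev]

theorem ev_xor (N : ℕ) (x : ℕ → ZMod 2) (m n : ℕ) : ev N x (m ^^^ n) = ev N x m + ev N x n := by
  rw [ev, ev, ev, ← Finset.sum_add_distrib]
  refine Finset.sum_congr rfl fun u _ => ?_
  rw [Nat.testBit_xor]
  cases m.testBit u <;> cases n.testBit u <;> simp [CharTwo.add_self_eq_zero]

theorem ev_two_pow (N : ℕ) (x : ℕ → ZMod 2) {u : ℕ} (h : u < N) : ev N x (2 ^ u) = x u := by
  simp [ev, Nat.testBit_two_pow, h]

theorem ev_congr (N : ℕ) {x y : ℕ → ZMod 2} (h : ∀ u < N, x u = y u) (m : ℕ) : ev N x m = ev N y m :=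
  Finset.sum_congr rfl fun u hu => by rw [h u (Finset.mem_range.1 hu)]

theorem ev_add_vars (N : ℕ) (x y : ℕ → ZMod 2) (m : ℕ) : ev N (x + y) m = ev N x m + ev N y m := by
  rw [ev, ev, ev, ← Finset.sum_add_distrib]
  exact Finset.sum_congr rfl fun u _ => by split_ifs <;> simp

theorem ev_of_zero (N : ℕ) (m : ℕ) : ev N 0 m = 0 := by simp [ev]

theorem ev_xorSel (N : ℕ) (x : ℕ → ZMod 2) :
    ∀ (l : List ℕ), (∀ e ∈ l, ev N x e = 0) → ∀ m, ev N x (xorSel l m) = 0
  | [], _, _ => ev_zero N x
  | r :: rs, h, m => by
    rw [xorSel, ev_xor, ev_xorSel N x rs (fun e he => h e (by simp [he])), add_zero]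
    split_ifs
    · exact h r (by simp)
    · exact ev_zero N x

/-- The vector of a symbolic value. -/
def evSym (N : ℕ) (x : ℕ → ZMod 2) (l : List ℕ) : Vec := fun c => ev N x (l.getD c.val 0)

/-- A matrix, given by its columns, applied to a vector. -/
def matVec (c : List ℕ) (v : Vec) : Vec :=
  fun k => ∑ i, if (c.getD i.val 0).testBit k.val then v i else 0

theorem getD_range_map (f : ℕ → ℕ) {n i : ℕ} (h : i < n) : ((List.range n).map f).getD i 0 = f i := by
  simp [List.getD_eq_getElem?_getD, h]

theorem evSym_nil (N : ℕ) (x : ℕ → ZMod 2) : evSym N x [] = 0 := by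
  funext c; simp [evSym, ev_zero]

theorem evSym_addSym (N : ℕ) (x : ℕ → ZMod 2) (a b : List ℕ) :
    evSym N x (addSym a b) = evSym N x a + evSym N x b := by
  funext c
  simp only [evSym, addSym, getD_range_map _ c.isLt, ev_xor, Pi.add_apply]

theorem ev_dotAt (N : ℕ) (x : ℕ → ZMod 2) (k : ℕ) : ∀ (n : ℕ) (c v : List ℕ),
    ev N x (dotAt k n c v) =
      ∑ i ∈ Finset.range n, if (c.getD i 0).testBit k then ev N x (v.getD i 0) else 0
  | 0, c, v => by simp [dotAt, ev_zero]
  | n + 1, c, v => by
    rw [dotAt, ev_xor, ev_dotAt N x k n, Finset.sum_range_succ' (n := n), add_comm]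
    congr 1
    · exact Finset.sum_congr rfl fun i _ => by cases c <;> cases v <;> simp [ev_zero]
    · cases c <;> cases v <;> simp [apply_ite (ev N x), ev_zero]

theorem evSym_matSym (N : ℕ) (x : ℕ → ZMod 2) (c v : List ℕ) :
    evSym N x (matSym c v) = matVec c (evSym N x v) := by
  funext k
  simp only [evSym, matSym, getD_range_map _ k.isLt, ev_dotAt, matVec]
  exact (Fin.sum_univ_eq_sum_range
    (fun i => if (c.getD i 0).testBit k.val then ev N x (v.getD i 0) else 0) 11).symm

theorem getD_idMat (j : Fin 11) : idMat.getD j.val 0 = 2 ^ j.val := getD_range_map _ j.isLt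

theorem matVec_idMat (v : Vec) : matVec idMat v = v := by
  funext k
  simp only [matVec, getD_idMat, Nat.testBit_two_pow, decide_eq_true_eq, ← Fin.ext_iff]
  simp

theorem two_inv (u : Vec) : u + u = 0 := by funext c; exact CharTwo.add_self_eq_zero _

theorem matVec_zero (c : List ℕ) : matVec c 0 = 0 := by
  funext k; simp [matVec]

theorem firstPair_eq : ∀ {w : List ℕ} {r}, firstPair w = some r → w = r.1 ++ r.2.1 :: r.2.2.1 :: r.2.2.2
  | a :: b :: t, r, h => by
    rw [firstPair] at h
    split_ifs at h with hle
    · cases h; rfl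
    · obtain ⟨s, hs, rfl⟩ := Option.map_eq_some_iff.1 h
      simp [← firstPair_eq hs]
  | [], r, h => by simp [firstPair] at h
  | [a], r, h => by simp [firstPair] at h

theorem findRel_eq : ∀ {L : List (List ℕ × List ℕ)} {w : List ℕ} {k₀ k : ℕ} {r : List ℕ},
    findRel L w k₀ = some (k, r) → ∃ i, k = k₀ + i ∧ L[i]? = some (w, r)
  | [], w, k₀, k, r, h => by simp [findRel] at h
  | (l, r') :: t, w, k₀, k, r, h => by
    rw [findRel] at h
    split_ifs at h with he
    · cases h
      exact ⟨0, rfl, by simp [beq_iff_eq.1 he]⟩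
    · obtain ⟨i, rfl, hi⟩ := findRel_eq h
      exact ⟨i + 1, by omega, by simpa using hi⟩

section
variable {G : Type*} [Group G]

/-- A map of the module into a group. -/
structure IsEmb (i : Vec → G) : Prop where
  add : ∀ u v, i (u + v) = i u * i v
  inj : Function.Injective i

namespace IsEmb

variable {i : Vec → G} (hi : IsEmb i)
include hi

theorem map_zero : i 0 = 1 := by
  have h := hi.add 0 0
  rw [add_zero] at h
  exact left_eq_mul.1 h

theorem comm (u v : Vec) : i u * i v = i v * i u := by rw [← hi.add, ← hi.add, add_comm]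

theorem eq_of_mul_eq {u v : Vec} {g : G} (h : i u * g = i v * g) : u = v := hi.inj (mul_right_cancel h)

end IsEmb

/-- The product of a word. -/
def word (a : ℕ → G) (w : List ℕ) : G := (w.map a).prod

theorem word_nil (a : ℕ → G) : word a [] = 1 := rfl

theorem word_cons (a : ℕ → G) (j : ℕ) (w : List ℕ) : word a (j :: w) = a j * word a w := rfl

theorem word_append (a : ℕ → G) (v w : List ℕ) : word a (v ++ w) = word a v * word a w := by
  simp [word]

/-- The chosen elements act by the matrices. -/
def Acts (C : Cert) (i : Vec → G) (a : ℕ → G) : Prop :=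
  ∀ j v, a j * i v = i (matVec (C.mat j) v) * a j

/-- The relations below `n` hold up to the values `x`. -/
def Holds (C : Cert) (i : Vec → G) (a : ℕ → G) (n : ℕ) (x : ℕ → ZMod 2) : Prop :=
  ∀ k l r, k < n → C.rels[k]? = some (l, r) →
    word a l = i (fun c => x (11 * k + c.val)) * word a r

variable {C : Cert} {i : Vec → G} {a : ℕ → G} {n : ℕ} {x : ℕ → ZMod 2}

theorem evSym_symVar {N : ℕ} (x : ℕ → ZMod 2) {k : ℕ} (h : 11 * k + 11 ≤ N) :
    evSym N x (symVar k) = fun c => x (11 * k + c.val) := by
  funext c
  rw [evSym, symVar, getD_range_map _ c.isLt, ev_two_pow _ _ (by omega)]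

theorem word_actWord (hA : Acts C i a) (N : ℕ) (v : List ℕ) : ∀ w : List ℕ,
    word a w * i (evSym N x v) = i (evSym N x (C.actWord w v)) * word a w
  | [] => by simp [word_nil, Cert.actWord]
  | j :: w => by
    rw [Cert.actWord, evSym_matSym, word_cons, mul_assoc, word_actWord hA N v w, ← mul_assoc, hA, mul_assoc]

theorem lookup (hH : Holds C i a n x) (hn : 28 ≤ n) {w r : List ℕ} {k : ℕ}
    (h : findRel (C.rels.take 28) w 0 = some (k, r)) :
    k < 28 ∧ word a w = i (evSym (11 * n) x (symVar k)) * word a r := by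
  obtain ⟨j, rfl, hj⟩ := findRel_eq h
  rw [Nat.zero_add]
  rw [List.getElem?_take] at hj
  split_ifs at hj with h28
  exact ⟨h28, by rw [hH j w r (by omega) hj, evSym_symVar x (by omega)]⟩

theorem collect_sound (hi : IsEmb i) (hA : Acts C i a) (hH : Holds C i a n x) (hn : 28 ≤ n) :
    ∀ (fuel : ℕ) {w : List ℕ} {r}, C.collect fuel w = some r →
      word a w = i (evSym (11 * n) x r.1) * word a r.2
  | 0, w, r, h => by simp [Cert.collect] at h
  | m + 1, w, r, h => by
    rw [Cert.collect] at h
    split at h
    · cases h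
      rw [evSym_nil, hi.map_zero, one_mul]
    · rename_i pre p q post hp
      split at h
      · cases h
      · rename_i k s hk
        obtain ⟨y, hy, rfl⟩ := Option.map_eq_some_iff.1 h
        have e := collect_sound hi hA hH hn m hy
        rw [word_append, word_append, mul_assoc] at e
        have hw : w = pre ++ [p, q] ++ post := by rw [firstPair_eq hp]; simp
        rw [hw, word_append, word_append, (lookup hH hn hk).2, ← mul_assoc (word a pre),
          word_actWord hA, mul_assoc (i _), mul_assoc (i _), mul_assoc (word a pre), e, evSym_addSym,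
          hi.add, mul_assoc]

theorem across_sound (hi : IsEmb i) (hA : Acts C i a) (hH : Holds C i a n x) (hn : n = C.rels.length) (g : ℕ) :
    ∀ {l : List ℕ} {r}, C.across g l = some r →
      a g * word a r.2.1 = i (evSym (11 * n) x r.1) * word a r.2.2 * a g
  | [], r, h => by
    cases h
    simp [word_nil, evSym_nil, hi.map_zero]
  | t :: l, r, h => by
    rw [Cert.across] at h
    split at h
    · rename_i y g' w s hy hs
      split_ifs at h with hc
      cases h
      simp only [Bool.and_eq_true, beq_iff_eq] at hc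
      obtain ⟨rfl, hc2⟩ := hc
      obtain ⟨hlt, -⟩ := List.getElem?_eq_some_iff.1 hs
      have e := hH (28 + t) _ _ (by omega) hs
      rw [← evSym_symVar x (N := 11 * n) (by omega), hc2, word_cons, word_append, word_cons, word_nil,
        mul_one] at e
      have e2 := across_sound hi hA hH hn g' hy
      show a g' * word a (w ++ y.2.1) = _
      rw [word_append, ← mul_assoc, e, mul_assoc, mul_assoc, e2, evSym_addSym, hi.add, word_append,
        ← mul_assoc (word a s.dropLast), ← mul_assoc (word a s.dropLast), word_actWord hA]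
      group
    · cases h

theorem acrossNF_sound (hi : IsEmb i) (hA : Acts C i a) (hH : Holds C i a n x) (hn : n = C.rels.length)
    (h28 : 28 ≤ n) {g : ℕ} {l : List ℕ} {r} (h : C.acrossNF g l = some r) :
    a g * word a r.2.1 = i (evSym (11 * n) x r.1) * word a r.2.2 * a g := by
  rw [Cert.acrossNF] at h
  split at h
  · cases h
  · rename_i y hy
    split at h
    · rename_i p q hp hq
      cases h
      have e := across_sound hi hA hH hn g hy
      rw [collect_sound hi hA hH h28 _ hp, collect_sound hi hA hH h28 _ hq, ← mul_assoc, hA,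
        ← evSym_matSym, mul_assoc] at e
      show a g * word a p.2 = _
      rw [← mul_right_inj (i (evSym (11 * n) x (matSym (C.mat g) p.1))), e, evSym_addSym, evSym_addSym,
        ← mul_assoc, ← mul_assoc, ← mul_assoc, ← hi.add, ← hi.add, ← add_assoc]
      rw [two_inv, zero_add]
    · cases h

theorem specVal_sound (hi : IsEmb i) (hA : Acts C i a) (hH : Holds C i a n x) (hn : n = C.rels.length)
    (h28 : 28 ≤ n) (s : Spec) : ∀ e ∈ C.specVal s, ev (11 * n) x e = 0 := by
  suffices h : evSym (11 * n) x (C.specVal s) = 0 ∧ (C.specVal s).length ≤ 11 by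
    intro e he
    obtain ⟨m, hm, rfl⟩ := List.getElem_of_mem he
    have h0 := congrFun h.1 ⟨m, lt_of_lt_of_le hm h.2⟩
    simpa [evSym, hm] using h0
  have hlen : ∀ u v : List ℕ, (addSym u v).length ≤ 11 := fun u v => by simp [addSym]
  cases s with
  | assoc p q r =>
    simp only [Cert.specVal]
    split
    · rename_i y k t hy hk
      split
      · rename_i z hz
        split_ifs with hc
        · refine ⟨?_, hlen _ _⟩
          have e1 := collect_sound hi hA hH h28 _ hy
          have e2 := collect_sound hi hA hH h28 _ hz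
          have hk' := (lookup hH h28 hk).2
          rw [word_cons] at e1 e2
          rw [hk', ← mul_assoc, hA, ← evSym_matSym, mul_assoc, e2, ← beq_iff_eq.1 hc, ← mul_assoc,
            ← hi.add] at e1
          rw [evSym_addSym, evSym_addSym, ← hi.eq_of_mul_eq e1]
          funext c
          simp only [Pi.add_apply, Pi.zero_apply]
          grind
        · exact ⟨evSym_nil _ _, by simp⟩
      · exact ⟨evSym_nil _ _, by simp⟩
    · exact ⟨evSym_nil _ _, by simp⟩
  | conj g l l' =>
    simp only [Cert.specVal]
    split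
    · rename_i y z hy hz
      split_ifs with hc
      · refine ⟨?_, hlen _ _⟩
        simp only [Bool.and_eq_true, beq_iff_eq] at hc
        have e1 := acrossNF_sound hi hA hH hn h28 hy
        have e2 := acrossNF_sound hi hA hH hn h28 hz
        rw [hc.1, hc.2, e2] at e1
        rw [evSym_addSym, hi.eq_of_mul_eq (mul_right_cancel e1), two_inv]
      · exact ⟨evSym_nil _ _, by simp⟩
    · exact ⟨evSym_nil _ _, by simp⟩

theorem eqs_sound (hi : IsEmb i) (hA : Acts C i a) (hH : Holds C i a n x) (hn : n = C.rels.length)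
    (h28 : 28 ≤ n) : ∀ e ∈ C.eqs, ev (11 * n) x e = 0 := by
  intro e he
  obtain ⟨s, -, hs⟩ := List.mem_flatMap.1 he
  exact specVal_sound hi hA hH hn h28 s e hs

/-- The lifts after the change. -/
def shifted (C : Cert) (i : Vec → G) (a : ℕ → G) (N : ℕ) (x : ℕ → ZMod 2) (j : ℕ) : G :=
  i (evSym N x (C.shift.getD j [])) * a j

theorem acts_shifted (hi : IsEmb i) (hA : Acts C i a) (N : ℕ) : Acts C i (shifted C i a N x) := by
  intro j v
  rw [shifted, mul_assoc, hA, ← mul_assoc, hi.comm, mul_assoc]

theorem word_shifted (hi : IsEmb i) (hA : Acts C i a) (N : ℕ) : ∀ w : List ℕ,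
    word (shifted C i a N x) w = i (evSym N x (C.dv w)) * word a w
  | [] => by simp [word_nil, Cert.dv, evSym_nil, hi.map_zero]
  | j :: w => by
    rw [word_cons, word_shifted hi hA N w, shifted, Cert.dv, evSym_addSym, evSym_matSym, hi.add, word_cons]
    rw [mul_assoc, ← mul_assoc (a j), hA]
    group

/-- If the only possible coordinate vanishes, the changed lifts satisfy the presentation exactly. -/
theorem holds_shifted (hi : IsEmb i) (hA : Acts C i a) (hH : Holds C i a n x) (hn : n = C.rels.length)
    (h28 : 28 ≤ n) (hC : C.combOK = true) (h0 : ev (11 * n) x C.coord = 0) :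
    Holds C i (shifted C i a (11 * n) x) 28 0 := by
  intro k l r hk hkr
  have hz : evSym (11 * n) x (C.newX k) = 0 := by
    funext c
    have hc := beq_iff_eq.1 (allBelow_iff.1 (allBelow_iff.1 hC k hk) c.val c.isLt)
    have := congrArg (ev (11 * n) x) hc
    rw [ev_xor, ev_xorSel _ _ _ (eqs_sound hi hA hH hn h28)] at this
    rw [Pi.zero_apply, evSym]
    split_ifs at this with hb
    · rwa [h0, add_zero] at this
    · rwa [ev_zero, add_zero] at this
  rw [Cert.newX, List.getD_eq_getElem?_getD, hkr, Option.getD_some, evSym_addSym, evSym_addSym,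
    evSym_symVar x (by omega)] at hz
  rw [word_shifted hi hA, word_shifted hi hA, show (fun c : Fin 11 => (0 : ℕ → ZMod 2) (11 * k + c.val)) = 0 from rfl,
    hi.map_zero, one_mul, hH k l r (by omega) hkr, ← mul_assoc, ← hi.add]
  congr 2
  funext c
  have := congrFun hz c
  simp only [Pi.add_apply, Pi.zero_apply] at this ⊢
  grind

end

end CfsgLib.M23Cohom
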