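import Cfsg.Agent.M23Cohom.Sound
import Cfsg.Agent.M23Cohom.CertData
import Cfsg.Agent.S4217

/-!
An extension of M23 by a module with a checked certificate splits once the coordinate of its class vanishes:
the changed lifts give a complement over a Sylow 2-subgroup, and Gaschütz's averaging gives one over M23.
-/

set_option autoImplicit false

namespace CfsgLib.M23Cohom

open CfsgLib.Mathieu Cfsg

/-- An extension of M23 by the module on which the tabulated permutations act by the matrices. -/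
structure Ext (C : Cert) (G : Type*) [Group G] where
  /-- The projection. -/
  proj : G →* Spor.M23
  /-- The module. -/
  incl : Vec → G
  emb : IsEmb incl
  mem_ker : ∀ g, proj g = 1 ↔ ∃ v, incl v = g
  surj : Function.Surjective proj
  conj : ∀ g j, j < C.gens.length → Rep enc (proj g : Equiv.Perm GolayPt) (C.gens.getD j 0) →
    ∀ v, g * incl v * g⁻¹ = incl (matVec (C.mat j) v)

namespace Ext

variable {C : Cert} {G : Type*} [Group G] (M : Ext C G)

/-- Chosen preimages of the tabulated permutations. -/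
def IsLift (a : ℕ → G) : Prop :=
  ∀ j, (j < C.gens.length → Rep enc (M.proj (a j) : Equiv.Perm GolayPt) (C.gens.getD j 0)) ∧
    (C.gens.length ≤ j → a j = 1)

theorem exists_lift (hC : C.tablesOK = true) : ∃ a, M.IsLift a := by
  simp only [Cert.tablesOK, Bool.and_eq_true, List.all_eq_true] at hC
  have h : ∀ j, ∃ g : G, (j < C.gens.length → Rep enc (M.proj g : Equiv.Perm GolayPt) (C.gens.getD j 0)) ∧
      (C.gens.length ≤ j → g = 1) := by
    intro j
    by_cases hj : j < C.gens.length
    · obtain ⟨⟨hv, hp⟩, h23⟩ := hC.1.2 (C.gens.getD j 0) (by simp [hj])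
      obtain ⟨σ, rσ⟩ := exists_rep_of_valid hv
      have hfix : σ none = none := rσ.apply_eq enc (beq_iff_eq.1 h23)
      obtain ⟨g, hg⟩ := M.surj ⟨σ, mem_SporM23.2 ⟨mem_M24_of_table rσ hp, hfix⟩⟩
      exact ⟨g, fun _ => by rw [hg]; exact rσ, fun h => absurd h (by omega)⟩
    · exact ⟨1, fun h => absurd h hj, fun _ => rfl⟩
  choose a ha using h
  exact ⟨a, ha⟩

theorem mats_length (hC : C.tablesOK = true) : C.mats.length = C.gens.length := by
  simp only [Cert.tablesOK, Bool.and_eq_true, beq_iff_eq] at hC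
  exact hC.1.1.2

theorem gens_length (hC : C.tablesOK = true) : 7 ≤ C.gens.length := by
  simp only [Cert.tablesOK, Bool.and_eq_true, decide_eq_true_eq] at hC
  exact hC.1.1.1.2

theorem rels_length (hC : C.tablesOK = true) : 28 ≤ C.rels.length := by
  simp only [Cert.tablesOK, Bool.and_eq_true, decide_eq_true_eq] at hC
  exact hC.1.1.1.1

variable {M} {a : ℕ → G}

theorem IsLift.acts (ha : M.IsLift a) (hC : C.tablesOK = true) : Acts C M.incl a := by
  intro j v
  by_cases hj : j < C.gens.length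
  · rw [← M.conj _ j hj ((ha j).1 hj) v]; group
  · rw [(ha j).2 (by omega), Cert.mat, List.getD_eq_default _ _ (by rw [mats_length hC]; omega),
      matVec_idMat, one_mul, mul_one]

theorem IsLift.rep_word (ha : M.IsLift a) : ∀ w : List ℕ, (∀ j ∈ w, j < C.gens.length) →
    ∀ p, idx ((M.proj (word a w) : Equiv.Perm GolayPt) p) = appWord C.gens w (idx p)
  | [], _, p => by simp [word_nil, appWord]
  | j :: w, h, p => by
    rw [word_cons, map_mul, appWord, ← IsLift.rep_word ha w (fun q hq => h q (by simp [hq])) p]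
    exact ((ha j).1 (h j (by simp)) _).symm

theorem IsLift.word_proj_eq (ha : M.IsLift a) (hC : C.tablesOK = true) {k : ℕ} {l r : List ℕ}
    (hk : C.rels[k]? = some (l, r)) : M.proj (word a l) = M.proj (word a r) := by
  simp only [Cert.tablesOK, Bool.and_eq_true, List.all_eq_true] at hC
  obtain ⟨⟨hl, hr⟩, htab⟩ := hC.2 _ (List.mem_of_getElem? hk)
  refine Subtype.ext (Equiv.ext fun p => idx_injective ?_)
  rw [ha.rep_word l (fun j hj => Nat.blt_eq.mp (hl j hj)) p,
    ha.rep_word r (fun j hj => Nat.blt_eq.mp (hr j hj)) p]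
  exact beq_iff_eq.1 (allBelow_iff.1 htab _ (idx_lt p))

theorem IsLift.exists_holds (ha : M.IsLift a) (hC : C.tablesOK = true) :
    ∃ x, Holds C M.incl a C.rels.length x := by
  have h : ∀ k : ℕ, ∃ v : Vec, ∀ l r : List ℕ, C.rels[k]? = some (l, r) → word a l = M.incl v * word a r := by
    intro k
    rcases hk : C.rels[k]? with _ | ⟨l, r⟩
    · exact ⟨0, fun l r h => by simp at h⟩
    · obtain ⟨v, hv⟩ := (M.mem_ker (word a l * (word a r)⁻¹)).1
        (by rw [map_mul, map_inv, ha.word_proj_eq hC hk, mul_inv_cancel])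
      refine ⟨v, fun l' r' h => ?_⟩
      obtain ⟨rfl, rfl⟩ := Prod.mk.inj (Option.some.inj h)
      rw [hv]; group
  choose v hv using h
  refine ⟨fun u => v (u / 11) ⟨u % 11, Nat.mod_lt _ (by norm_num)⟩, fun k l r _ hk => ?_⟩
  rw [hv k l r hk]
  congr 2
  funext c
  have hc := c.isLt
  show v k c = v ((11 * k + c.val) / 11) _
  have h1 : (11 * k + c.val) / 11 = k := by omega
  rw [h1]
  congr 1
  exact Fin.ext (show c.val = (11 * k + c.val) % 11 by omega)

theorem two_group (n : G) (hn : n ∈ M.proj.ker) : n * n = 1 := by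
  obtain ⟨v, rfl⟩ := (M.mem_ker n).1 hn
  rw [← M.emb.add, two_inv, M.emb.map_zero]

theorem ker_comm : IsMulCommutative M.proj.ker := by
  refine ⟨⟨fun p q => ?_⟩⟩
  obtain ⟨u, hu⟩ := (M.mem_ker _).1 p.2
  obtain ⟨v, hv⟩ := (M.mem_ker _).1 q.2
  exact Subtype.ext (by rw [Subgroup.coe_mul, Subgroup.coe_mul, ← hu, ← hv, M.emb.comm])

theorem complement_of_good [Finite G] {A : Subgroup G} [A.Normal] (hA : IsMulCommutative A)
    (h2 : ∀ n ∈ A, n * n = 1) {m : ℕ} (hm : Odd m) (h : Cfsg.Agent.S4217.Good A (m : ℤ)) :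
    ∃ H : Subgroup G, H ⊓ A = ⊥ ∧ H ⊔ A = ⊤ := by
  obtain ⟨θ, hθ, hθA⟩ := h
  have hid : ∀ x : A, θ (x : G) = x := by
    intro x
    obtain ⟨q, rfl⟩ := hm
    have hx : x * x = 1 := Subtype.ext (h2 x x.2)
    rw [hθA, zpow_natCast, pow_succ, pow_mul, pow_two, hx, one_pow, one_mul]
  have hone : θ 1 = 1 := hid 1
  have hmul : ∀ g k, θ g = 1 → θ k = 1 → θ (g * k) = 1 := fun g k hg hk => by
    rw [hθ, hg, hk, one_mul]
    exact map_one (MulAut.conjNormal (H := A) g)
  let H : Subgroup G :=
    { carrier := {g | θ g = 1}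
      one_mem' := hone
      mul_mem' := fun hg hk => hmul _ _ hg hk
      inv_mem' := fun {g} hg => by
        show θ g⁻¹ = 1
        have := hθ g⁻¹ g
        rw [inv_mul_cancel, hone, show θ g = 1 from hg] at this
        rw [show Cfsg.Agent.S4217.act g⁻¹ (1 : A) = 1 from map_one (MulAut.conjNormal (H := A) g⁻¹),
          mul_one] at this
        exact this.symm }
  refine ⟨H, (Subgroup.eq_bot_iff_forall _).2 fun g hg => ?_, eq_top_iff.2 fun g _ => ?_⟩
  · have h1 : θ g = 1 := hg.1
    rw [hid ⟨g, hg.2⟩] at h1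
    exact congrArg Subtype.val h1
  · have hh : (θ g : G)⁻¹ * g ∈ H := by
      show θ _ = 1
      rw [hθ, ← InvMemClass.coe_inv, hid, Cfsg.Agent.S4217.act_of_mem hA (θ g)⁻¹.2, inv_mul_cancel]
    have : g = (θ g : G) * ((θ g : G)⁻¹ * g) := by group
    rw [this]
    exact mul_mem (Subgroup.mem_sup_right (θ g).2) (Subgroup.mem_sup_left hh)

/-- If the coordinate of the class vanishes, the extension splits. -/
theorem IsLift.split [Finite G] (ha : M.IsLift a) (hC : C.tablesOK = true) {F : List (List ℕ)}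
    (hF : C.formsOK F = true) (hcomb : C.combOK = true) {x : ℕ → ZMod 2}
    (hH : Holds C M.incl a C.rels.length x) (h0 : ev (11 * C.rels.length) x C.coord = 0) :
    ∃ H : Subgroup G, H ⊓ M.proj.ker = ⊥ ∧ H ⊔ M.proj.ker = ⊤ := by
  classical
  have h28 := rels_length hC
  have hAct := ha.acts hC
  set b := shifted C M.incl a (11 * C.rels.length) x with hb
  have hB : Acts C M.incl b := acts_shifted M.emb hAct _
  have hR : Holds C M.incl b 28 0 := holds_shifted M.emb hAct hH rfl h28 hcomb h0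
  simp only [Cert.formsOK, Bool.and_eq_true, List.all_eq_true, decide_eq_true_eq, beq_iff_eq,
    allBelow_iff] at hF
  obtain ⟨⟨⟨hnil, hlen⟩, hnd⟩, hclosed⟩ := hF
  rw [List.contains_iff_mem] at hnil
  have hstep : ∀ w ∈ F, ∀ j, j < 7 → ∃ w' ∈ F, word b (w ++ [j]) = word b w' := by
    intro w hw j hj
    have := (hclosed w hw).2 j hj
    split at this
    · rename_i r hr
      refine ⟨r.2, List.contains_iff_mem.1 this, ?_⟩
      have hz : evSym (11 * 28) (0 : ℕ → ZMod 2) r.1 = 0 := by funext c; exact ev_of_zero _ _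
      rw [collect_sound M.emb hB hR le_rfl _ hr, hz, M.emb.map_zero, one_mul]
    · cases this
  have happ : ∀ v : List ℕ, (∀ j ∈ v, j < 7) → ∀ w ∈ F, ∃ w' ∈ F, word b (w ++ v) = word b w' := by
    intro v
    induction v with
    | nil => intro _ w hw; exact ⟨w, hw, by rw [List.append_nil]⟩
    | cons j v ih =>
      intro hv w hw
      obtain ⟨w1, hw1, e1⟩ := hstep w hw j (hv j (by simp))
      obtain ⟨w2, hw2, e2⟩ := ih (fun q hq => hv q (by simp [hq])) w1 hw1
      refine ⟨w2, hw2, ?_⟩
      rw [show w ++ j :: v = (w ++ [j]) ++ v by simp, word_append, e1, ← word_append, e2]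
  let S : Submonoid G :=
    { carrier := {g | ∃ w ∈ F, word b w = g}
      one_mem' := ⟨[], hnil, rfl⟩
      mul_mem' := by
        rintro p q ⟨v, hv, rfl⟩ ⟨w, hw, rfl⟩
        obtain ⟨w', hw', e⟩ := happ w (fun j hj => Nat.blt_eq.mp ((hclosed w hw).1 j hj)) v hv
        exact ⟨w', hw', by rw [← e, word_append]⟩ }
  let K : Subgroup G :=
    { S with
      inv_mem' := fun {g} hg => by
        obtain ⟨k, hk⟩ : ∃ k : ℕ, g⁻¹ = g ^ k :=
          ⟨orderOf g - 1, inv_eq_of_mul_eq_one_right (by
            rw [← pow_succ', Nat.sub_add_cancel (orderOf_pos g), pow_orderOf_eq_one])⟩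
        rw [hk]
        exact pow_mem (show g ∈ S from hg) k }
  have hmemK : ∀ g, g ∈ K ↔ ∃ w ∈ F, word b w = g := fun g => Iff.rfl
  have hbproj : ∀ w : List ℕ, M.proj (word b w) = M.proj (word a w) := by
    intro w
    rw [hb, word_shifted M.emb hAct, map_mul, (M.mem_ker _).2 ⟨_, rfl⟩, one_mul]
  have hwlt : ∀ w ∈ F, ∀ j ∈ w, j < C.gens.length := fun w hw j hj =>
    lt_of_lt_of_le (Nat.blt_eq.mp ((hclosed w hw).1 j hj)) (gens_length hC)
  have hinj : ∀ w ∈ F, ∀ w' ∈ F, M.proj (word b w) = M.proj (word b w') → w = w' := by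
    intro w hw w' hw' e
    rw [hbproj, hbproj] at e
    refine List.inj_on_of_nodup_map hnd hw hw' (List.map_congr_left fun i hi => ?_)
    have hi' : i < 24 := List.mem_range.1 hi
    rw [← idx_pt hi', ← ha.rep_word w (hwlt w hw), ← ha.rep_word w' (hwlt w' hw'), e]
  have hKA : K ⊓ M.proj.ker = ⊥ := by
    refine (Subgroup.eq_bot_iff_forall _).2 fun g hg => ?_
    obtain ⟨w, hw, rfl⟩ := (hmemK g).1 hg.1
    have h1 : M.proj (word b w) = 1 := hg.2
    rw [hinj w hw [] hnil (by rw [h1, word_nil, map_one]), word_nil]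
  have hcard : Nat.card (K.map M.proj) = 128 := by
    have hset : ((K.map M.proj : Subgroup Spor.M23) : Set Spor.M23) =
        ↑(F.toFinset.image fun w => M.proj (word b w)) := by
      ext σ
      simp only [Subgroup.coe_map, Set.mem_image, Finset.coe_image, SetLike.mem_coe, List.mem_toFinset]
      constructor
      · rintro ⟨g, hg, rfl⟩
        obtain ⟨w, hw, rfl⟩ := (hmemK g).1 hg
        exact ⟨w, hw, rfl⟩
      · rintro ⟨w, hw, rfl⟩
        exact ⟨_, (hmemK _).2 ⟨w, hw, rfl⟩, rfl⟩
    rw [← SetLike.coe_sort_coe, Nat.card_coe_set_eq, hset, Set.ncard_coe_finset, Finset.card_image_of_injOn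
      (fun w hw w' hw' => hinj w (List.mem_toFinset.1 hw) w' (List.mem_toFinset.1 hw')),
      List.toFinset_card_of_nodup (List.Nodup.of_map _ hnd), hlen]
  have hidx : Odd (K ⊔ M.proj.ker).index := by
    rw [← Subgroup.comap_map_eq, Subgroup.index_comap_of_surjective _ M.surj]
    have h := Subgroup.card_mul_index (K.map M.proj)
    rw [hcard, card_SporM23] at h
    rw [show (K.map M.proj).index = 79695 by omega]
    exact ⟨39847, rfl⟩
  exact complement_of_good M.ker_comm M.two_group hidx
    (Cfsg.Agent.S4217.good_index M.ker_comm _ K hKA rfl)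

end Ext

end CfsgLib.M23Cohom
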